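import Groth.Agent.QuotLib.Reynolds
import Groth.Agent.QuotLib.Desc
import Groth.Agent.QuotLib.DescGen
import Groth.Prelude.Def_SymProd
import Groth.Prelude.Def_K0Var

/-! Symmetric powers of a disjoint union in characteristic zero. -/

set_option autoImplicit false
set_option backward.isDefEq.respectTransparency false
set_option backward.isDefEq.respectTransparency.types false
universe u
open CategoryTheory CategoryTheory.Limits AlgebraicGeometry TopologicalSpace SymProd

noncomputable section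

namespace Groth.Agent.SymProdLib

section prodQuot

variable {Y : Scheme.{u}} {A A' B B' : Scheme.{u}}

theorem epi_of_isQuot {G : Type u} [Group G] [Finite G] {ρ : G →* Aut A} {p : A ⟶ B} (hp : SGA1.IsQuot ρ p) :
    Epi p :=
  ⟨fun _ _ e => Groth.Agent.QuotLib.eq_of_comp_eq hp e⟩

/-- An action over the base, extended to a fibre product with trivial action on the other factor. -/
def pullAct {G : Type u} [Group G] (ρ : G →* Aut A) (a : A ⟶ Y) (a' : A' ⟶ Y)
    (hρ : ∀ s, (ρ s).hom ≫ a = a) : G →* Aut (pullback a a') where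
  toFun s :=
    { hom := pullback.map a a' a a' (ρ s).hom (𝟙 _) (𝟙 _) (by rw [hρ, Category.comp_id]) (by simp)
      inv := pullback.map a a' a a' (ρ s).inv (𝟙 _) (𝟙 _)
        (by rw [Category.comp_id, Iso.eq_inv_comp, hρ]) (by simp)
      hom_inv_id := by ext <;> simp
      inv_hom_id := by ext <;> simp }
  map_one' := by
    refine Iso.ext ?_
    show _ = 𝟙 (pullback a a')
    ext <;> simp <;> exact Category.comp_id _
  map_mul' s t := by ext <;> simp [Aut.Aut_mul_def]

@[simp]
theorem pullAct_hom {G : Type u} [Group G] (ρ : G →* Aut A) (a : A ⟶ Y) (a' : A' ⟶ Y)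
    (hρ : ∀ s, (ρ s).hom ≫ a = a) (s : G) :
    (pullAct ρ a a' hρ s).hom =
      pullback.map a a' a a' (ρ s).hom (𝟙 _) (𝟙 _) (by rw [hρ, Category.comp_id]) (by simp) := rfl

variable {G H : Type u} [Group G] [Finite G] [Group H] [Finite H]
  {ρ : G →* Aut A} {σ : H →* Aut A'} {q : A ⟶ B} {q' : A' ⟶ B'}
  (hq : SGA1.IsQuot ρ q) (hq' : SGA1.IsQuot σ q') {g : B ⟶ Y} {g' : B' ⟶ Y} {a : A ⟶ Y} {a' : A' ⟶ Y}
  (ha : q ≫ g = a) (ha' : q' ≫ g' = a')
  (hG : IsUnit (Nat.card G : Γ(B, ⊤))) (hH : IsUnit (Nat.card H : Γ(B', ⊤)))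

include hq hq' ha ha' hG hH in
/-- The product of two quotients has the universal property of a quotient. -/
theorem desc_prod :
    Epi (pullback.map a a' g g' q q' (𝟙 Y) (by rw [ha, Category.comp_id]) (by rw [ha', Category.comp_id])) ∧
    ∀ {Z : Scheme.{u}} (h : pullback a a' ⟶ Z),
      (∀ (s : G) (v : pullback a a' ⟶ pullback a a'), v ≫ pullback.fst a a' = pullback.fst a a' ≫ (ρ s).hom →
        v ≫ pullback.snd a a' = pullback.snd a a' → v ≫ h = h) →
      (∀ (t : H) (v : pullback a a' ⟶ pullback a a'), v ≫ pullback.fst a a' = pullback.fst a a' →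
        v ≫ pullback.snd a a' = pullback.snd a a' ≫ (σ t).hom → v ≫ h = h) →
      ∃ d : pullback g g' ⟶ Z,
        pullback.map a a' g g' q q' (𝟙 Y) (by rw [ha, Category.comp_id]) (by rw [ha', Category.comp_id]) ≫ d = h := by
  subst ha ha'
  have hρ : ∀ s, (ρ s).hom ≫ q ≫ g = q ≫ g := fun s => by rw [← Category.assoc, hq.inv]
  have hσ : ∀ t, (σ t).hom ≫ q' ≫ g' = q' ≫ g' := fun t => by rw [← Category.assoc, hq'.inv]
  let α : pullback (q ≫ g) (q' ≫ g') ⟶ pullback g (q' ≫ g') :=
    pullback.map _ _ _ _ q (𝟙 _) (𝟙 Y) (by simp) (by simp)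
  let β : pullback g (q' ≫ g') ⟶ pullback g g' :=
    pullback.map _ _ _ _ (𝟙 _) q' (𝟙 Y) (by simp) (by simp)
  have e : pullback.map (q ≫ g) (q' ≫ g') g g' q q' (𝟙 Y) (by simp) (by simp) = α ≫ β := by
    ext <;> simp [α, β]
  have sqα : IsPullback (pullback.fst (q ≫ g) (q' ≫ g')) α q (pullback.fst g (q' ≫ g')) := by
    refine IsPullback.of_bot ?_ (by simp [α]) (IsPullback.of_hasPullback g (q' ≫ g'))
    rw [show α ≫ pullback.snd g (q' ≫ g') = pullback.snd _ _ by simp [α]]
    exact IsPullback.of_hasPullback _ _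
  have sqβ : IsPullback (pullback.snd g (q' ≫ g')) β q' (pullback.snd g g') := by
    refine IsPullback.of_bot ?_ (by simp [β]) (IsPullback.of_hasPullback g g').flip
    rw [show β ≫ pullback.fst g g' = pullback.fst _ _ by simp [β]]
    exact (IsPullback.of_hasPullback _ _).flip
  let σM : H →* Aut (pullback g (q' ≫ g')) :=
    { toFun := fun t =>
        { hom := pullback.map _ _ _ _ (𝟙 _) (σ t).hom (𝟙 _) (by simp) (by rw [hσ, Category.comp_id])
          inv := pullback.map _ _ _ _ (𝟙 _) (σ t).inv (𝟙 _) (by simp)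
            (by rw [Category.comp_id, Iso.eq_inv_comp, hσ])
          hom_inv_id := by ext <;> simp
          inv_hom_id := by ext <;> simp }
      map_one' := by
        refine Iso.ext ?_
        show _ = 𝟙 (pullback g (q' ≫ g'))
        ext <;> simp <;> exact Category.comp_id _
      map_mul' := fun s t => by ext <;> simp [Aut.Aut_mul_def] }
  have hα : SGA1.IsQuot (pullAct ρ (q ≫ g) (q' ≫ g') hρ) α :=
    Groth.Agent.QuotLib.isQuot_of_isPullback hq sqα _ (fun s => by simp)
      (fun s => by ext <;> simp [α, hq.inv]) hG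
  have hβ : SGA1.IsQuot σM β :=
    Groth.Agent.QuotLib.isQuot_of_isPullback hq' sqβ _ (fun t => by simp [σM])
      (fun t => by ext <;> simp [σM, β, hq'.inv]) hH
  haveI := epi_of_isQuot hα
  haveI := epi_of_isQuot hβ
  refine ⟨by rw [e]; infer_instance, fun {Z} h h₁ h₂ => ?_⟩
  obtain ⟨d₁, hd₁, -⟩ := Groth.Agent.QuotLib.existsUnique_desc hα h fun s => h₁ s _ (by simp) (by simp)
  obtain ⟨d, hd, -⟩ := Groth.Agent.QuotLib.existsUnique_desc hβ d₁ fun t => by
    rw [← cancel_epi α]
    let v : pullback (q ≫ g) (q' ≫ g') ⟶ pullback (q ≫ g) (q' ≫ g') :=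
      pullback.map _ _ _ _ (𝟙 _) (σ t).hom (𝟙 _) (by simp) (by rw [hσ, Category.comp_id])
    have : α ≫ (σM t).hom = v ≫ α := by ext <;> simp [α, σM, v]
    rw [reassoc_of% this, hd₁]
    exact h₂ t v (by simp [v]) (by simp [v])
  exact ⟨d, by rw [e, Category.assoc, hd, hd₁]⟩

end prodQuot

section K0

variable {Y X : Scheme.{u}} [IsLocallyNoetherian Y] (f : X ⟶ Y) [LocallyOfFiniteType f] [QuasiCompact f]
  {ι : Type*} (Z : ι → Scheme.{u}) (j : ∀ a, Z a ⟶ X) [∀ a, IsOpenImmersion (j a)]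

/-- The class of a finite disjoint union of open subschemes. -/
theorem cl_eq_sum [Fintype ι] (hdisj : Pairwise fun a b => Disjoint (Set.range (j a)) (Set.range (j b)))
    (hcov : ∀ x, ∃ a, x ∈ Set.range (j a)) (z : ∀ a, Z a ⟶ Y) [∀ a, LocallyOfFiniteType (z a)]
    [∀ a, QuasiCompact (z a)] (hz : ∀ a, j a ≫ f = z a) : K0Var.cl f = ∑ a, K0Var.cl (z a) := by
  classical
  haveI : IsLocallyNoetherian X := LocallyOfFiniteType.isLocallyNoetherian f
  haveI : ∀ U : X.Opens, QuasiCompact (U.ι ≫ f) := fun U => inferInstance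
  let U : Finset ι → X.Opens := fun s => s.sup fun a => (j a).opensRange
  have hU : ∀ s, (U s : Set X) = ⋃ a ∈ s, Set.range (j a) := fun s => by
    induction s using Finset.induction_on with
    | empty => simp [U]
    | insert a s ha ih =>
      simp only [U, Finset.sup_insert, Opens.coe_sup, Finset.set_biUnion_insert] at ih ⊢
      rw [ih]; rfl
  have key : ∀ s, K0Var.cl ((U s).ι ≫ f) = ∑ a ∈ s, K0Var.cl (z a) := by
    intro s
    induction s using Finset.induction_on with
    | empty =>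
      haveI : IsEmpty (U ∅).toScheme := by
        refine ⟨fun x => ?_⟩
        have hx : x.1 ∈ (U ∅ : Set X) := x.2
        rw [hU] at hx
        obtain ⟨a, ha, -⟩ := Set.mem_iUnion₂.1 hx
        exact absurd ha (Finset.notMem_empty a)
      rw [Finset.sum_empty]
      exact K0Var.Gen.cl_eq_zero_of_isEmpty (K0Var.Gen.mk _ ((U ∅).ι ≫ f))
    | insert a s ha ih =>
      have hsub : U s ≤ U (insert a s) := Finset.sup_mono (Finset.subset_insert a s)
      have hra : Set.range (j a) ⊆ Set.range (U (insert a s)).ι := by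
        rw [Scheme.Opens.range_ι, hU]
        exact fun x hx => Set.mem_biUnion (Finset.mem_insert_self a s) hx
      let i := IsOpenImmersion.lift (U (insert a s)).ι (j a) hra
      let o := X.homOfLE hsub
      have hi : i ≫ (U (insert a s)).ι = j a := IsOpenImmersion.lift_fac _ _ _
      have hr : Set.range i = (Set.range o)ᶜ := by
        have e1 : ∀ x, x ∈ Set.range i ↔ x.1 ∈ Set.range (j a) := fun x => by
          constructor
          · rintro ⟨w, rfl⟩; exact ⟨w, by rw [← hi]; rfl⟩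
          · rintro ⟨w, hw⟩
            refine ⟨w, Subtype.ext ?_⟩
            rw [← hw, ← hi]; rfl
        have e2 : ∀ x, x ∈ Set.range o ↔ x.1 ∈ (U s : Set X) := fun x => by
          constructor
          · rintro ⟨w, rfl⟩
            rw [show (o w).1 = (U s).ι w from
              congrArg (fun k : (U s).toScheme ⟶ X => k w) (X.homOfLE_ι hsub)]
            exact w.2
          · intro hx
            refine ⟨⟨x.1, hx⟩, Subtype.ext ?_⟩
            exact congrArg (fun k : (U s).toScheme ⟶ X => k ⟨x.1, hx⟩) (X.homOfLE_ι hsub)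
        ext x
        have hx : x.1 ∈ (U (insert a s) : Set X) := x.2
        rw [hU, Finset.set_biUnion_insert] at hx
        rw [Set.mem_compl_iff, e1, e2, hU]
        refine ⟨fun h h' => ?_, fun h => hx.resolve_right h⟩
        obtain ⟨b, hb, hxb⟩ := Set.mem_iUnion₂.1 h'
        exact Set.disjoint_left.1 (hdisj (show a ≠ b by rintro rfl; exact ha hb)) h hxb
      haveI : IsOpenImmersion (i ≫ (U (insert a s)).ι) := by rw [hi]; infer_instance
      haveI : IsOpenImmersion i := IsOpenImmersion.of_comp i (U (insert a s)).ι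
      haveI : IsClosedImmersion i := IsClosedImmersion.of_isPreimmersion i (by
        rw [hr]; exact o.isOpenEmbedding.isOpen_range.isClosed_compl)
      haveI : IsLocallyNoetherian (U (insert a s)).toScheme := inferInstance
      haveI : QuasiCompact o := inferInstance
      have h := K0Var.cl_scissor ((U (insert a s)).ι ≫ f) i o hr
      rw [h, Finset.sum_insert ha]
      have h1 : K0Var.cl (i ≫ (U (insert a s)).ι ≫ f) = K0Var.cl (z a) :=
        K0Var.cl_congr _ _ (Iso.refl _) (by rw [Iso.refl_hom, Category.id_comp, ← Category.assoc, hi, hz])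
      have h2 : K0Var.cl (o ≫ (U (insert a s)).ι ≫ f) = K0Var.cl ((U s).ι ≫ f) :=
        K0Var.cl_congr _ _ (Iso.refl _) (by rw [Iso.refl_hom, Category.id_comp, ← Category.assoc, X.homOfLE_ι])
      rw [h1, h2, ih]
  rw [← key]
  have htop : U Finset.univ = ⊤ := by
    refine Opens.ext ((hU _).trans (Set.eq_univ_of_forall fun x => ?_))
    obtain ⟨a, ha⟩ := hcov x
    exact Set.mem_biUnion (Finset.mem_univ a) ha
  rw [htop]
  exact K0Var.cl_congr _ _ X.topIso.symm (by rw [Iso.symm_hom, ← Category.assoc, ← X.topIso_hom, Iso.inv_hom_id,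
    Category.id_comp])

end K0

section coprod

variable {X X' Y : Scheme.{u}} (f : X ⟶ Y) (f' : X' ⟶ Y)

/-- The pieces of the fibre power of a disjoint union. -/
abbrev piece (i m : ℕ) : Scheme.{u} :=
  pullback (WidePullback.base fun _ : Fin i => f) (WidePullback.base fun _ : Fin m => f')

variable {n i m : ℕ}

def pieceProj : Fin i ⊕ Fin m → (piece f f' i m ⟶ X ⨿ X') :=
  Sum.elim (fun b => pullback.fst _ _ ≫ WidePullback.π _ b ≫ coprod.inl)
    fun b => pullback.snd _ _ ≫ WidePullback.π _ b ≫ coprod.inr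

/-- The inclusion of a piece attached to a labelling of the factors. -/
def emb (j : Fin i ⊕ Fin m ≃ Fin n) : piece f f' i m ⟶ fibPow (coprod.desc f f') n :=
  WidePullback.lift (pullback.fst _ _ ≫ WidePullback.base _) (fun a => pieceProj f f' (j.symm a)) (fun a => by
    rcases j.symm a with b | b
    · simp [pieceProj]
    · simp [pieceProj, pullback.condition])

@[reassoc]
theorem emb_π (j : Fin i ⊕ Fin m ≃ Fin n) (a : Fin n) :
    emb f f' j ≫ WidePullback.π _ a = pieceProj f f' (j.symm a) := WidePullback.lift_π _ _ _ _ a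

@[reassoc (attr := simp)]
theorem emb_base (j : Fin i ⊕ Fin m ≃ Fin n) :
    emb f f' j ≫ WidePullback.base _ = pullback.fst _ _ ≫ WidePullback.base _ := WidePullback.lift_base _ _ _ _

@[reassoc]
theorem emb_perm (j : Fin i ⊕ Fin m ≃ Fin n) (σ : Equiv.Perm (Fin n)) :
    emb f f' j ≫ permHom _ n σ = emb f f' (j.trans σ) := by
  refine WidePullback.hom_ext _ _ _ (fun a => ?_) (by simp)
  rw [Category.assoc, permHom_π, emb_π, emb_π]
  rfl

theorem emb_congr (j : Fin i ⊕ Fin m ≃ Fin n) (γ : Equiv.Perm (Fin i)) (δ : Equiv.Perm (Fin m))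
    (v : piece f f' i m ⟶ piece f f' i m) (h₁ : v ≫ pullback.fst _ _ = pullback.fst _ _ ≫ permHom f i γ)
    (h₂ : v ≫ pullback.snd _ _ = pullback.snd _ _ ≫ permHom f' m δ) :
    v ≫ emb f f' j = emb f f' ((Equiv.sumCongr γ δ).trans j) := by
  refine WidePullback.hom_ext _ _ _ (fun a => ?_) ?_
  · rw [Category.assoc, emb_π, emb_π, Equiv.symm_trans_apply]
    rcases j.symm a with b | b
    · simp [pieceProj, reassoc_of% h₁]
    · simp [pieceProj, reassoc_of% h₂]
  · simp [reassoc_of% h₁]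

/-- The open locus of a labelling. -/
def locus (j : Fin i ⊕ Fin m ≃ Fin n) : (fibPow (coprod.desc f f') n).Opens :=
  Finset.univ.inf fun a => (WidePullback.π (fun _ : Fin n => coprod.desc f f') a) ⁻¹ᵁ
    Sum.elim (fun _ => (coprod.inl : X ⟶ X ⨿ X').opensRange) (fun _ => (coprod.inr : X' ⟶ X ⨿ X').opensRange) (j.symm a)

theorem mem_locus (j : Fin i ⊕ Fin m ≃ Fin n) (x : fibPow (coprod.desc f f') n) :
    x ∈ locus f f' j ↔ ∀ a, WidePullback.π (fun _ : Fin n => coprod.desc f f') a x ∈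
      Sum.elim (fun _ => (coprod.inl : X ⟶ X ⨿ X').opensRange)
        (fun _ => (coprod.inr : X' ⟶ X ⨿ X').opensRange) (j.symm a) := by
  change x ∈ (locus f f' j : Set (fibPow (coprod.desc f f') n)) ↔ _
  simp only [locus, Opens.coe_finset_inf, Finset.inf_set_eq_iInter, Set.mem_iInter, Finset.mem_univ, true_implies]
  rfl

theorem exists_iso_locus (j : Fin i ⊕ Fin m ≃ Fin n) :
    ∃ e : piece f f' i m ≅ (locus f f' j).toScheme, e.hom ≫ (locus f f' j).ι = emb f f' j := by
  let F := fibPow (coprod.desc f f') n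
  let U := locus f f' j
  have hr₀ : Set.range (emb f f' j) ⊆ Set.range U.ι := by
    rw [Scheme.Opens.range_ι]
    rintro _ ⟨x, rfl⟩
    refine (mem_locus f f' j _).2 fun a => ?_
    have := congrArg (fun k => k x) (emb_π f f' j a)
    simp only [Scheme.Hom.comp_apply] at this
    rw [this]
    rcases j.symm a with b | b <;> exact ⟨_, rfl⟩
  have hl : ∀ b, Set.range (U.ι ≫ WidePullback.π _ (j (.inl b))) ⊆ Set.range (coprod.inl : X ⟶ X ⨿ X') := by
    rintro b _ ⟨x, rfl⟩
    have := (mem_locus f f' j x.1).1 x.2 (j (.inl b))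
    rw [Equiv.symm_apply_apply] at this
    exact this
  have hr : ∀ b, Set.range (U.ι ≫ WidePullback.π _ (j (.inr b))) ⊆ Set.range (coprod.inr : X' ⟶ X ⨿ X') := by
    rintro b _ ⟨x, rfl⟩
    have := (mem_locus f f' j x.1).1 x.2 (j (.inr b))
    rw [Equiv.symm_apply_apply] at this
    exact this
  let L : U.toScheme ⟶ fibPow f i := WidePullback.lift (U.ι ≫ WidePullback.base _)
    (fun b => IsOpenImmersion.lift _ _ (hl b)) (fun b => by
      rw [← WidePullback.π_arrow (fun _ : Fin n => coprod.desc f f') (j (.inl b)),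
        ← reassoc_of% IsOpenImmersion.lift_fac _ _ (hl b), coprod.inl_desc])
  let R : U.toScheme ⟶ fibPow f' m := WidePullback.lift (U.ι ≫ WidePullback.base _)
    (fun b => IsOpenImmersion.lift _ _ (hr b)) (fun b => by
      rw [← WidePullback.π_arrow (fun _ : Fin n => coprod.desc f f') (j (.inr b)),
        ← reassoc_of% IsOpenImmersion.lift_fac _ _ (hr b), coprod.inr_desc])
  let inv' : U.toScheme ⟶ piece f f' i m := pullback.lift L R (by simp [L, R])
  let hom' : piece f f' i m ⟶ U.toScheme := IsOpenImmersion.lift U.ι _ hr₀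
  have hh : hom' ≫ U.ι = emb f f' j := IsOpenImmersion.lift_fac _ _ _
  refine ⟨⟨hom', inv', ?_, ?_⟩, hh⟩
  · refine pullback.hom_ext ?_ ?_
    · simp only [inv', Category.assoc, pullback.lift_fst, Category.id_comp]
      refine WidePullback.hom_ext _ _ _ (fun b => ?_) (by simp [L, reassoc_of% hh])
      rw [Category.assoc, WidePullback.lift_π, ← cancel_mono (coprod.inl : X ⟶ X ⨿ X'), Category.assoc,
        Category.assoc, IsOpenImmersion.lift_fac, reassoc_of% hh, emb_π, Equiv.symm_apply_apply]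
      simp [pieceProj]
    · simp only [inv', Category.assoc, pullback.lift_snd, Category.id_comp]
      refine WidePullback.hom_ext _ _ _ (fun b => ?_) (by simp [R, reassoc_of% hh, pullback.condition])
      rw [Category.assoc, WidePullback.lift_π, ← cancel_mono (coprod.inr : X' ⟶ X ⨿ X'), Category.assoc,
        Category.assoc, IsOpenImmersion.lift_fac, reassoc_of% hh, emb_π, Equiv.symm_apply_apply]
      simp [pieceProj]
  · rw [← cancel_mono U.ι, Category.assoc, hh, Category.id_comp]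
    refine WidePullback.hom_ext _ _ _ (fun a => ?_) (by simp [inv', L])
    rw [Category.assoc, emb_π]
    obtain ⟨c, rfl⟩ := j.surjective a
    rw [Equiv.symm_apply_apply]
    rcases c with b | b <;> simp [pieceProj, inv', L, R, IsOpenImmersion.lift_fac]

instance (j : Fin i ⊕ Fin m ≃ Fin n) : IsOpenImmersion (emb f f' j) := by
  obtain ⟨e, he⟩ := exists_iso_locus f f' j
  rw [← he]; infer_instance

theorem exists_emb_apply (x : fibPow (coprod.desc f f') n) :
    ∃ (i m : ℕ) (_ : i + m = n) (j : Fin i ⊕ Fin m ≃ Fin n), x ∈ Set.range (emb f f' j) := by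
  classical
  let P : Fin n → Prop := fun a => WidePullback.π (fun _ : Fin n => coprod.desc f f') a x ∈ Set.range (coprod.inl : X ⟶ X ⨿ X')
  let j : Fin (Fintype.card {a // P a}) ⊕ Fin (Fintype.card {a // ¬P a}) ≃ Fin n :=
    ((Fintype.equivFin _).symm.sumCongr (Fintype.equivFin _).symm).trans (Equiv.sumCompl P)
  refine ⟨_, _, by simpa using Fintype.card_congr j, j, ?_⟩
  obtain ⟨e, he⟩ := exists_iso_locus f f' j
  have hx : x ∈ locus f f' j := (mem_locus f f' j x).2 fun a => by
    obtain ⟨c, rfl⟩ := j.surjective a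
    rw [Equiv.symm_apply_apply]
    rcases c with b | b
    · exact ((Fintype.equivFin {a // P a}).symm b).2
    · exact (isCompl_range_inl_inr X X').compl_eq.le ((Fintype.equivFin {a // ¬P a}).symm b).2
  exact ⟨e.inv ⟨x, hx⟩, by rw [← he, ← Scheme.Hom.comp_apply, e.inv_hom_id_assoc]; rfl⟩

theorem eq_of_emb_eq {i' m' : ℕ} (j : Fin i ⊕ Fin m ≃ Fin n) (j' : Fin i' ⊕ Fin m' ≃ Fin n)
    (x : piece f f' i m) (x' : piece f f' i' m') (h : emb f f' j x = emb f f' j' x') (a : Fin n) :
    (j.symm a).isLeft = (j'.symm a).isLeft := by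
  have h1 := congrArg (fun k => k x) (emb_π f f' j a)
  have h2 := congrArg (fun k => k x') (emb_π f f' j' a)
  simp only [Scheme.Hom.comp_apply] at h1 h2
  rw [h, h2] at h1
  revert h1
  rcases j.symm a with b | b <;> rcases j'.symm a with c | c <;> intro h1 <;> try rfl
  · simp only [pieceProj, Sum.elim_inl, Sum.elim_inr, Scheme.Hom.comp_apply] at h1
    exact absurd h1 (Set.disjoint_iff_forall_ne.mp (isCompl_range_inl_inr X X').disjoint ⟨_, rfl⟩ ⟨_, rfl⟩).symm
  · simp only [pieceProj, Sum.elim_inl, Sum.elim_inr, Scheme.Hom.comp_apply] at h1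
    exact absurd h1 (Set.disjoint_iff_forall_ne.mp (isCompl_range_inl_inr X X').disjoint ⟨_, rfl⟩ ⟨_, rfl⟩)

end coprod

theorem eq_of_isLeft_eq {n i m i' m' : ℕ} (j : Fin i ⊕ Fin m ≃ Fin n) (j' : Fin i' ⊕ Fin m' ≃ Fin n)
    (h : ∀ a, (j.symm a).isLeft = (j'.symm a).isLeft) : i = i' := by
  have key : ∀ {i m : ℕ} (j : Fin i ⊕ Fin m ≃ Fin n),
      (Finset.univ.filter fun a => (j.symm a).isLeft = true).card = i := by
    intro i m j
    rw [show (Finset.univ.filter fun a => (j.symm a).isLeft = true) =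
      Finset.univ.map (Function.Embedding.inl.trans j.toEmbedding) from ?_, Finset.card_map, Finset.card_univ,
      Fintype.card_fin]
    ext a
    obtain ⟨b | b, rfl⟩ := j.surjective a <;> simp
  rw [← key j, ← key j']
  simp_rw [h]

theorem exists_sumCongr {n i m : ℕ} (j j' : Fin i ⊕ Fin m ≃ Fin n)
    (h : ∀ a, (j.symm a).isLeft = (j'.symm a).isLeft) :
    ∃ γ δ, (Equiv.sumCongr γ δ).trans j = j' := by
  obtain ⟨⟨γ, δ⟩, he⟩ := Equiv.Perm.mem_sumCongrHom_range_of_perm_mapsTo_inl (σ := j'.trans j.symm) (by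
    rintro _ ⟨b, rfl⟩
    have hb := h (j' (.inl b))
    rw [j'.symm_apply_apply] at hb
    obtain ⟨c, hc⟩ := Sum.isLeft_iff.1 hb
    exact ⟨c, hc.symm⟩)
  refine ⟨γ, δ, Equiv.ext fun x => ?_⟩
  have := Equiv.congr_fun he x
  simp only [Equiv.Perm.sumCongrHom_apply, Equiv.trans_apply] at this
  simp [this]

section main

theorem isUnit_natCast (k : Type u) [Field k] [CharZero k] {S : Scheme.{u}} (s : S ⟶ Spec (CommRingCat.of k))
    {c : ℕ} (hc : c ≠ 0) : IsUnit (c : Γ(S, ⊤)) := by
  have h := ((isUnit_iff_ne_zero.2 (Nat.cast_ne_zero.2 hc : (c : k) ≠ 0)).map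
    ((Scheme.ΓSpecIso (CommRingCat.of k)).inv ≫ s.appTop).hom)
  rwa [map_natCast] at h

variable (k : Type u) [Field k] [CharZero k] {X X' Y : Scheme.{u}} (pY : Y ⟶ Spec (CommRingCat.of k))
  [IsLocallyNoetherian Y] (f : X ⟶ Y) (f' : X' ⟶ Y)
  {Sy : ℕ → Scheme.{u}} {q : ∀ n, fibPow f n ⟶ Sy n} {g : ∀ n, Sy n ⟶ Y} (hS : ∀ n, IsSymProd f n (q n) (g n))
  {Sy' : ℕ → Scheme.{u}} {q' : ∀ n, fibPow f' n ⟶ Sy' n} {g' : ∀ n, Sy' n ⟶ Y}
  (hS' : ∀ n, IsSymProd f' n (q' n) (g' n))
  [∀ n, LocallyOfFiniteType (g n)] [∀ n, QuasiCompact (g n)]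
  [∀ n, LocallyOfFiniteType (g' n)] [∀ n, QuasiCompact (g' n)]

include pY hS hS' in
theorem cl_symProd_coprod {T : Scheme.{u}} {n : ℕ} (Q : fibPow (coprod.desc f f') n ⟶ T) (h : T ⟶ Y)
    (hT : IsSymProd (coprod.desc f f') n Q h) [LocallyOfFiniteType h] [QuasiCompact h] :
    K0Var.cl h = ∑ p ∈ Finset.HasAntidiagonal.antidiagonal n, K0Var.cl (g p.1) * K0Var.cl (g' p.2) := by
  classical
  let ι := {p : ℕ × ℕ // p ∈ Finset.HasAntidiagonal.antidiagonal n}
  let J : ι → Type := fun p => Fin p.1.1 ⊕ Fin p.1.2 ≃ Fin n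
  let j₀ : ∀ p : ι, J p := fun p =>
    finSumFinEquiv.trans (finCongr (Finset.HasAntidiagonal.mem_antidiagonal.1 p.2))
  let D : ι → Scheme.{u} := fun p => pullback (g p.1.1) (g' p.1.2)
  let qq : ∀ p : ι, piece f f' p.1.1 p.1.2 ⟶ D p := fun p =>
    pullback.map _ _ _ _ (q p.1.1) (q' p.1.2) (𝟙 Y) (by rw [(hS _).over, Category.comp_id])
      (by rw [(hS' _).over, Category.comp_id])
  have hD := fun p : ι => desc_prod (hS p.1.1).isQuot (hS' p.1.2).isQuot (hS p.1.1).over (hS' p.1.2).over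
    (isUnit_natCast k (g _ ≫ pY) Nat.card_pos.ne') (isUnit_natCast k (g' _ ≫ pY) Nat.card_pos.ne')
  haveI hepi : ∀ p, Epi (qq p) := fun p => (hD p).1
  have hqq : ∀ (p : ι) (γ : Equiv.Perm (Fin p.1.1)) (δ : Equiv.Perm (Fin p.1.2))
      (v : piece f f' p.1.1 p.1.2 ⟶ piece f f' p.1.1 p.1.2),
      v ≫ pullback.fst _ _ = pullback.fst _ _ ≫ permHom f _ γ →
      v ≫ pullback.snd _ _ = pullback.snd _ _ ≫ permHom f' _ δ → v ≫ qq p = qq p := by
    intro p γ δ v h₁ h₂
    refine pullback.hom_ext ?_ ?_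
    · simp only [qq, Category.assoc, pullback.lift_fst, reassoc_of% h₁]
      congr 1
      exact (hS _).isQuot.inv ⟨γ⟩
    · simp only [qq, Category.assoc, pullback.lift_snd, reassoc_of% h₂]
      congr 1
      exact (hS' _).isQuot.inv ⟨δ⟩
  -- the cover of the fibre power
  let C : (fibPow (coprod.desc f f') n).OpenCover :=
    { I₀ := Σ p : ι, J p
      X := fun c => piece f f' c.1.1.1 c.1.1.2
      f := fun c => emb f f' c.2
      mem₀ := by
        rw [Scheme.presieve₀_mem_precoverage_iff]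
        refine ⟨fun x => ?_, inferInstance⟩
        obtain ⟨i, m, him, j, hj⟩ := exists_emb_apply f f' x
        exact ⟨⟨⟨(i, m), Finset.HasAntidiagonal.mem_antidiagonal.2 him⟩, j⟩, hj⟩ }
  have hglue : ∀ c c' : C.I₀, pullback.fst (C.f c) (C.f c') ≫ qq c.1 ≫ Sigma.ι D c.1 =
      pullback.snd (C.f c) (C.f c') ≫ qq c'.1 ≫ Sigma.ι D c'.1 := by
    rintro ⟨p, j⟩ ⟨p', j'⟩
    by_cases hem : Nonempty (pullback (emb f f' j) (emb f f' j') : Scheme.{u})
    · obtain ⟨z⟩ := hem
      have hl := eq_of_emb_eq f f' j j' (pullback.fst (emb f f' j) (emb f f' j') z)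
        (pullback.snd (emb f f' j) (emb f f' j') z) (by
          rw [← Scheme.Hom.comp_apply, ← Scheme.Hom.comp_apply, pullback.condition])
      obtain rfl : p = p' := by
        have h1 := eq_of_isLeft_eq j j' hl
        have h2 := Finset.HasAntidiagonal.mem_antidiagonal.1 p.2
        have h3 := Finset.HasAntidiagonal.mem_antidiagonal.1 p'.2
        exact Subtype.ext (Prod.ext h1 (by omega))
      obtain ⟨γ, δ, rfl⟩ := exists_sumCongr j j' hl
      let v : piece f f' p.1.1 p.1.2 ⟶ piece f f' p.1.1 p.1.2 :=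
        pullback.map _ _ _ _ (permHom f _ γ) (permHom f' _ δ) (𝟙 Y) (by simp) (by simp)
      have e : v ≫ emb f f' j = emb f f' ((Equiv.sumCongr γ δ).trans j) :=
        emb_congr f f' j γ δ v (by simp [v]) (by simp [v])
      change pullback.fst _ (emb f f' ((Equiv.sumCongr γ δ).trans j)) ≫ qq p ≫ _ =
        pullback.snd _ (emb f f' ((Equiv.sumCongr γ δ).trans j)) ≫ qq p ≫ _
      have hfst : pullback.fst (emb f f' j) (emb f f' ((Equiv.sumCongr γ δ).trans j)) =
          pullback.snd _ _ ≫ v := by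
        rw [← cancel_mono (emb f f' j), pullback.condition, Category.assoc, e]
      rw [hfst, Category.assoc, reassoc_of% hqq p γ δ v (by simp [v]) (by simp [v])]
    · haveI := not_nonempty_iff.1 hem
      exact (isInitialOfIsEmpty (X := pullback (emb f f' j) (emb f f' j'))).hom_ext _ _
  let σ := C.glueMorphisms (fun c => qq c.1 ≫ Sigma.ι D c.1) hglue
  have hσ : ∀ (p : ι) (j : J p), emb f f' j ≫ σ = qq p ≫ Sigma.ι D p := fun p j =>
    C.ι_glueMorphisms _ _ ⟨p, j⟩
  obtain ⟨φ, hφ, -⟩ := Groth.Agent.QuotLib.existsUnique_desc hT.isQuot σ fun s => by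
    refine C.hom_ext _ _ fun ⟨p, j⟩ => ?_
    change emb f f' j ≫ (permActU _ n s).hom ≫ σ = emb f f' j ≫ σ
    rw [permActU_hom, emb_perm_assoc, hσ, hσ]
  have hQ : ∀ (p : ι) (j j' : J p), emb f f' j ≫ Q = emb f f' j' ≫ Q := fun p j j' => by
    conv_lhs => rw [← hT.isQuot.inv ⟨j.symm.trans j'⟩, permActU_hom, emb_perm_assoc]
    congr 2
    ext x; simp
  have hψ : ∀ p : ι, ∃ d : D p ⟶ T, qq p ≫ d = emb f f' (j₀ p) ≫ Q := fun p => by
    refine (hD p).2 _ (fun s v h₁ h₂ => ?_) (fun t v h₁ h₂ => ?_)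
    · rw [← Category.assoc, emb_congr f f' (j₀ p) s.down 1 v h₁ (by rw [h₂, permHom_one, Category.comp_id])]
      exact hQ p _ _
    · rw [← Category.assoc, emb_congr f f' (j₀ p) 1 t.down v (by rw [h₁, permHom_one, Category.comp_id]) h₂]
      exact hQ p _ _
  choose ψ hψ using hψ
  haveI := epi_of_isQuot hT.isQuot
  have hQφ : Q ≫ φ = σ := hφ
  let e : T ≅ ∐ D :=
    { hom := φ
      inv := Sigma.desc ψ
      hom_inv_id := by
        rw [← cancel_epi Q, ← Category.assoc, hQφ, Category.comp_id]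
        refine C.hom_ext _ _ fun ⟨p, j⟩ => ?_
        change emb f f' j ≫ σ ≫ _ = emb f f' j ≫ Q
        rw [reassoc_of% hσ p j, Sigma.ι_desc, hψ, hQ]
      inv_hom_id := by
        refine Sigma.hom_ext _ _ fun p => ?_
        rw [Sigma.ι_desc_assoc, Category.comp_id, ← cancel_epi (qq p), ← Category.assoc, hψ, Category.assoc, hQφ,
          hσ] }
  have hψh : ∀ p : ι, ψ p ≫ h = pullback.fst _ _ ≫ g p.1.1 := fun p => by
    rw [← cancel_epi (qq p), ← Category.assoc, hψ, Category.assoc, hT.over, emb_base]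
    simp only [qq, pullback.lift_fst_assoc, Category.assoc, (hS _).over]
  haveI : ∀ p, IsOpenImmersion (ψ p) := fun p => by
    rw [show ψ p = Sigma.ι D p ≫ e.inv from (Sigma.ι_desc _ _).symm]
    haveI : IsOpenImmersion (Sigma.ι D p) := (sigmaOpenCover D).map_prop p
    haveI : IsIso e.inv := Iso.isIso_inv e
    haveI : IsOpenImmersion e.inv := IsOpenImmersion.of_isIso _
    exact IsOpenImmersion.comp _ _
  rw [← Finset.sum_coe_sort, cl_eq_sum h D ψ ?_ ?_ (fun p => pullback.fst (g p.1.1) (g' p.1.2) ≫ g p.1.1) hψh]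
  · exact Finset.sum_congr rfl fun p _ => K0Var.cl_mul _ _
  · intro p p' hne
    rw [Set.disjoint_left]
    rintro _ ⟨x, rfl⟩ ⟨y, hy⟩
    have hy' := congrArg (fun z => e.hom z) hy
    simp only [show ∀ p, ψ p = Sigma.ι D p ≫ e.inv from fun p => (Sigma.ι_desc _ _).symm,
      ← Scheme.Hom.comp_apply, Category.assoc, Iso.inv_hom_id, Category.comp_id] at hy'
    exact hne (Sigma.mk.injEq _ _ _ _ ▸ (sigmaι_eq_iff D p p' x y).1 hy'.symm).1
  · intro x
    obtain ⟨p, y, hy⟩ := (sigmaOpenCover D).exists_eq (e.hom x)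
    exact ⟨p, y, by
      rw [show ψ p = Sigma.ι D p ≫ e.inv from (Sigma.ι_desc _ _).symm, Scheme.Hom.comp_apply]
      rw [show Sigma.ι D p y = e.hom x from hy, ← Scheme.Hom.comp_apply, e.hom_inv_id]; rfl⟩

end main

end Groth.Agent.SymProdLib
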