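import Groth.Agent.SymProdLib.Coprod

/-! Classes of Zariski locally trivial fibrations. -/

set_option autoImplicit false
set_option backward.isDefEq.respectTransparency false
set_option backward.isDefEq.respectTransparency.types false
universe u
open CategoryTheory CategoryTheory.Limits AlgebraicGeometry TopologicalSpace

noncomputable section

namespace Groth.Agent.SymProdLib

variable {S X Y F : Scheme.{u}} [IsLocallyNoetherian S]
  (pY : Y ⟶ S) [LocallyOfFiniteType pY] [QuasiCompact pY]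
  (pF : F ⟶ S) [LocallyOfFiniteType pF] [QuasiCompact pF]
  (f : X ⟶ Y) [LocallyOfFiniteType f] [QuasiCompact f]

/-- The class of the part of the fibration over a piece of the base. -/
def clOver {Z : Scheme.{u}} (z : Z ⟶ Y) [LocallyOfFiniteType z] [QuasiCompact z] : K0Var.K S :=
  K0Var.cl (pullback.snd f z ≫ z ≫ pY)

theorem clOver_of_triv {Z : Scheme.{u}} (z : Z ⟶ Y) [LocallyOfFiniteType z] [QuasiCompact z] (U : Y.Opens)
    (e : (f ⁻¹ᵁ U).toScheme ≅ pullback (U.ι ≫ pY) pF) (he : e.hom ≫ pullback.fst (U.ι ≫ pY) pF = f ∣_ U)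
    (hz : Set.range z ⊆ U) : clOver pY f z = K0Var.cl (z ≫ pY) * K0Var.cl pF := by
  let z' : Z ⟶ U.toScheme := IsOpenImmersion.lift U.ι z (by rw [Scheme.Opens.range_ι]; exact hz)
  have hz' : z' ≫ U.ι = z := IsOpenImmersion.lift_fac _ _ _
  have h₁ : IsPullback (pullback.fst (U.ι ≫ pY) pF) (e.inv ≫ (f ⁻¹ᵁ U).ι) U.ι f := by
    refine IsPullback.of_iso (isPullback_morphismRestrict f U) e (Iso.refl _) (Iso.refl _) (Iso.refl _) ?_ ?_ ?_ ?_
    all_goals simp [he]
  have h₂ : IsPullback (pullback.map (z ≫ pY) pF (U.ι ≫ pY) pF z' (𝟙 _) (𝟙 _) (by rw [reassoc_of% hz']; simp) (by simp))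
      (pullback.fst (z ≫ pY) pF) (pullback.fst (U.ι ≫ pY) pF) z' := by
    refine IsPullback.of_right ?_ (by simp) (IsPullback.of_hasPullback (U.ι ≫ pY) pF).flip
    rw [pullback.lift_snd, Category.comp_id, reassoc_of% hz']
    exact (IsPullback.of_hasPullback (z ≫ pY) pF).flip
  have h₃ := h₂.paste_horiz h₁.flip
  have h₄ := (congrArg (IsPullback _ (pullback.fst (z ≫ pY) pF) f) hz').mp h₃
  rw [clOver, ← K0Var.cl_mul]
  refine (K0Var.cl_congr _ _ h₄.isoPullback ?_).symm
  simp

theorem range_snd (Z : Scheme.{u}) (z : Z ⟶ Y) {W : Scheme.{u}} (w : W ⟶ Z) :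
    Set.range (pullback.map f (w ≫ z) f z (𝟙 X) w (𝟙 Y) (by simp) (by simp)) =
      pullback.snd f z ⁻¹' Set.range w := by
  have h : IsPullback (pullback.map f (w ≫ z) f z (𝟙 X) w (𝟙 Y) (by simp) (by simp)) (pullback.snd f (w ≫ z))
      (pullback.snd f z) w := by
    refine IsPullback.of_right ?_ (by simp) (IsPullback.of_hasPullback f z)
    rw [pullback.lift_fst, Category.comp_id]
    exact IsPullback.of_hasPullback _ _
  rw [← h.isoPullback_hom_fst, Scheme.Hom.comp_base, TopCat.coe_comp, Set.range_comp,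
    Set.range_eq_univ.2 (ConcreteCategory.bijective_of_isIso h.isoPullback.hom.base).2, Set.image_univ,
    Scheme.Pullback.range_fst]

theorem isPullback_map {Z W : Scheme.{u}} (z : Z ⟶ Y) (w : W ⟶ Z) :
    IsPullback (pullback.map f (w ≫ z) f z (𝟙 X) w (𝟙 Y) (by simp) (by simp)) (pullback.snd f (w ≫ z))
      (pullback.snd f z) w := by
  refine IsPullback.of_right ?_ (by simp) (IsPullback.of_hasPullback f z)
  rw [pullback.lift_fst, Category.comp_id]
  exact IsPullback.of_hasPullback _ _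

theorem clOver_scissor {Z A B : Scheme.{u}} (z : Z ⟶ Y) [LocallyOfFiniteType z] [QuasiCompact z]
    (i : A ⟶ Z) [IsClosedImmersion i] (j : B ⟶ Z) [IsOpenImmersion j] [QuasiCompact j]
    (hr : Set.range i = (Set.range j)ᶜ) :
    clOver pY f z = clOver pY f (i ≫ z) + clOver pY f (j ≫ z) := by
  let i' := pullback.map f (i ≫ z) f z (𝟙 X) i (𝟙 Y) (by simp) (by simp)
  let j' := pullback.map f (j ≫ z) f z (𝟙 X) j (𝟙 Y) (by simp) (by simp)
  haveI : IsClosedImmersion i' := MorphismProperty.of_isPullback (isPullback_map f z i).flip ‹IsClosedImmersion i›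
  haveI : IsOpenImmersion j' := MorphismProperty.of_isPullback (isPullback_map f z j).flip ‹IsOpenImmersion j›
  haveI : QuasiCompact j' := MorphismProperty.of_isPullback (isPullback_map f z j).flip ‹QuasiCompact j›
  have h := K0Var.cl_scissor (pullback.snd f z ≫ z ≫ pY) i' j' (by
    rw [range_snd, range_snd, hr, Set.preimage_compl])
  rw [clOver, h]
  congr 1 <;> refine K0Var.cl_congr _ _ (Iso.refl _) ?_ <;> simp [i', j', clOver]

theorem cl_locallyTrivial
    (hf : ∀ y : Y, ∃ (U : Y.Opens) (e : (f ⁻¹ᵁ U).toScheme ≅ pullback (U.ι ≫ pY) pF),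
      y ∈ U ∧ e.hom ≫ pullback.fst (U.ι ≫ pY) pF = f ∣_ U) [CompactSpace Y] :
    K0Var.cl (f ≫ pY) = K0Var.cl pY * K0Var.cl pF := by
  classical
  haveI : IsLocallyNoetherian Y := LocallyOfFiniteType.isLocallyNoetherian pY
  choose U e hyU he using hf
  obtain ⟨t, ht⟩ := isCompact_univ.elim_finite_subcover (fun y : Y => (U y : Set Y)) (fun y => (U y).2)
    (fun y _ => Set.mem_iUnion.2 ⟨y, hyU y⟩)
  have key : ∀ (s : Finset Y) {Z : Scheme.{u}} (z : Z ⟶ Y) [IsImmersion z] [QuasiCompact z],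
      Set.range z ⊆ ⋃ y ∈ s, (U y : Set Y) → clOver pY f z = K0Var.cl (z ≫ pY) * K0Var.cl pF := by
    intro s
    induction s using Finset.induction_on with
    | empty =>
      intro Z z _ _ hz
      haveI : IsEmpty Z := ⟨fun x => by simpa using hz ⟨x, rfl⟩⟩
      haveI : IsEmpty (pullback f z : Scheme.{u}) := Function.isEmpty (pullback.snd f z)
      rw [K0Var.Gen.cl_eq_zero_of_isEmpty (K0Var.Gen.mk _ (z ≫ pY)) |> fun h => (show K0Var.cl (z ≫ pY) = 0 from h),
        zero_mul]
      exact K0Var.Gen.cl_eq_zero_of_isEmpty (K0Var.Gen.mk _ (pullback.snd f z ≫ z ≫ pY))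
    | insert a s _ ih =>
      intro Z z _ _ hz
      haveI : IsLocallyNoetherian Z := LocallyOfFiniteType.isLocallyNoetherian z
      let W : Z.Opens := z ⁻¹ᵁ U a
      let C : Closeds Z := ⟨(W : Set Z)ᶜ, W.2.isClosed_compl⟩
      let I := Scheme.IdealSheafData.vanishingIdeal C
      have hr : Set.range I.subschemeι = (Set.range W.ι)ᶜ := by
        rw [Scheme.IdealSheafData.range_subschemeι, Scheme.IdealSheafData.coe_support_vanishingIdeal,
          Scheme.Opens.range_ι]
        rfl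
      have hcl : K0Var.cl (z ≫ pY) = K0Var.cl (I.subschemeι ≫ z ≫ pY) + K0Var.cl (W.ι ≫ z ≫ pY) :=
        K0Var.cl_scissor (z ≫ pY) _ _ hr
      rw [clOver_scissor pY f z I.subschemeι W.ι hr, ih (I.subschemeι ≫ z) ?_,
        clOver_of_triv pY pF f (W.ι ≫ z) (U a) (e a) (he a) ?_, hcl, add_mul]
      · simp only [Category.assoc]
      · rintro _ ⟨x, rfl⟩
        exact x.2
      · rintro _ ⟨x, rfl⟩
        have hx : I.subschemeι x ∈ (Set.range W.ι)ᶜ := hr ▸ ⟨x, rfl⟩
        rw [Set.mem_compl_iff, Scheme.Opens.range_ι] at hx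
        have := hz ⟨I.subschemeι x, rfl⟩
        rw [Finset.set_biUnion_insert] at this
        exact this.resolve_left hx
  have h := key t (𝟙 Y) (fun y _ => ht (Set.mem_univ y))
  have h1 : K0Var.cl (𝟙 Y ≫ pY) = K0Var.cl pY :=
    K0Var.cl_congr _ _ (Iso.refl _) (by simp)
  rw [← h1, ← h]
  exact (K0Var.cl_congr _ _ (asIso (pullback.fst f (𝟙 Y))) (by simp [pullback.condition_assoc])).symm

end Groth.Agent.SymProdLib
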